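import Groth.Agent.Lib.ExtTorMap.Basic
import Mathlib.RingTheory.Filtration
import Mathlib.RingTheory.Ideal.AssociatedPrime.Finiteness

/-!
# `Tor_p (I^n M, N) → Tor_p (M, N)` vanishes for all `p` at once when `I N = 0`

The proof is a dévissage: for a prime `q` with `a ∈ I \ q` one passes to `M / a M`,
using that multiplication by `a` is zero on `Tor (M, N)`.
-/

set_option autoImplicit false
universe u

open CategoryTheory TensorProduct

namespace GrothLib.TorAR

variable {R : Type u} [CommRing R] {P : ChainComplex (ModuleCat.{u} R) ℕ}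
variable {X Y Z W : Type u} [AddCommGroup X] [Module R X] [AddCommGroup Y] [Module R Y]
  [AddCommGroup Z] [Module R Z] [AddCommGroup W] [Module R W]

/-- `f` is zero on the homology of `- ⊗ P` in every degree. -/
def Zer (P : ChainComplex (ModuleCat.{u} R) ℕ) (f : X →ₗ[R] Y) : Prop :=
  ∀ (p : ℕ) (z : X ⊗[R] P.X p), (P.d p (p - 1)).hom.lTensor X z = 0 →
    ∃ w, (P.d (p + 1) p).hom.lTensor Y w = f.rTensor (P.X p) z

theorem rTensor_lTensor {V V' : Type u} [AddCommGroup V] [Module R V] [AddCommGroup V'] [Module R V']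
    (f : X →ₗ[R] Y) (d : V →ₗ[R] V') (z : X ⊗[R] V) :
    f.rTensor V' (d.lTensor X z) = d.lTensor Y (f.rTensor V z) :=
  (LinearMap.congr_fun (LinearMap.rTensor_comp_lTensor (f := f) (g := d)) z).trans
    (LinearMap.congr_fun (LinearMap.lTensor_comp_rTensor (f := f) (g := d)) z).symm

theorem Zer.zero : Zer P (0 : X →ₗ[R] Y) := fun p z _ => ⟨0, by simp⟩

theorem Zer.comp_left {f : X →ₗ[R] Y} (h : Zer P f) (g : Y →ₗ[R] Z) : Zer P (g ∘ₗ f) := fun p z hz => by
  obtain ⟨w, hw⟩ := h p z hz
  exact ⟨g.rTensor _ w, by rw [← rTensor_lTensor, hw, ← LinearMap.rTensor_comp_apply]⟩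

theorem Zer.comp_right {f : X →ₗ[R] Y} (h : Zer P f) (g : W →ₗ[R] X) : Zer P (f ∘ₗ g) := fun p z hz => by
  obtain ⟨w, hw⟩ := h p (g.rTensor _ z) (by rw [← rTensor_lTensor, hz, map_zero])
  exact ⟨w, by rw [hw, ← LinearMap.rTensor_comp_apply]⟩

/-- A map vanishing on homology after projection lifts to the kernel on homology. -/
theorem Zer.of_exact (hP : ∀ i, Module.Flat R (P.X i)) {f : X →ₗ[R] Y} {K : Type u} [AddCommGroup K]
    [Module R K] {i : K →ₗ[R] Y} (hi : Function.Injective i) {g : Y →ₗ[R] Z}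
    (hg : Function.Surjective g) (hex : Function.Exact i g) (hgf : Zer P (g ∘ₗ f))
    {h : Y →ₗ[R] W} (hhi : Zer P (h ∘ₗ i)) : Zer P (h ∘ₗ f) := by
  intro p z hz
  obtain ⟨w, hw⟩ := hgf p z hz
  obtain ⟨w', rfl⟩ := LinearMap.rTensor_surjective (P.X (p + 1)) hg w
  obtain ⟨k, hk⟩ := (rTensor_exact (P.X p) hex hg
    (f.rTensor _ z - (P.d (p + 1) p).hom.lTensor Y w')).1 (by
      rw [map_sub, rTensor_lTensor g, hw, ← LinearMap.rTensor_comp_apply, sub_self])
  have hd : (P.d p (p - 1)).hom.lTensor K k = 0 := by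
    have := hP (p - 1)
    refine Module.Flat.rTensor_preserves_injective_linearMap (M := P.X (p - 1)) i hi ?_
    rw [map_zero, rTensor_lTensor, hk, map_sub, ← rTensor_lTensor f, hz, map_zero,
      ← LinearMap.lTensor_comp_apply, ← ModuleCat.hom_comp, P.d_comp_d, ModuleCat.hom_zero,
      LinearMap.lTensor_zero, LinearMap.zero_apply, sub_zero]
  obtain ⟨v, hv⟩ := hhi p k hd
  refine ⟨h.rTensor _ w' + v, ?_⟩
  rw [map_add, hv, LinearMap.rTensor_comp_apply, hk, map_sub, ← rTensor_lTensor,
    LinearMap.rTensor_comp_apply]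
  abel

variable (P) in
/-- Some `I^n X → X` is zero on homology. -/
def Good (I : Ideal R) (T : Type u) [AddCommGroup T] [Module R T] : Prop :=
  ∃ n : ℕ, Zer P (I ^ n • (⊤ : Submodule R T)).subtype

variable (P) in
/-- Every submodule of `M` is `Good`. -/
def HGood (I : Ideal R) (M : Type u) [AddCommGroup M] [Module R M] : Prop :=
  ∀ (T : Type u) [AddCommGroup T] [Module R T] (j : T →ₗ[R] M), Function.Injective j → Good P I T

theorem hGood_extension [IsNoetherianRing R] (hP : ∀ i, Module.Flat R (P.X i)) {I : Ideal R}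
    {M₁ M M₂ : Type u} [AddCommGroup M₁] [Module R M₁] [AddCommGroup M] [Module R M] [AddCommGroup M₂]
    [Module R M₂] [Module.Finite R M] (i : M₁ →ₗ[R] M) (g : M →ₗ[R] M₂) (hi : Function.Injective i)
    (hex : Function.Exact i g) (h₁ : HGood P I M₁) (h₂ : HGood P I M₂) : HGood P I M := by
  intro T _ _ j hj
  haveI : Module.Finite R T := Module.Finite.of_injective j hj
  let T₁ : Submodule R T := LinearMap.ker (g ∘ₗ j)
  have hT₁ : ∀ x : T₁, ∃ y, i y = j x := fun x => (hex _).1 x.2
  choose j₁ hj₁ using hT₁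
  let J₁ : T₁ →ₗ[R] M₁ :=
    { toFun := j₁
      map_add' := fun a b => hi (by rw [map_add, hj₁, hj₁, hj₁, Submodule.coe_add, map_add])
      map_smul' := fun r a => hi (by rw [map_smul, hj₁, hj₁, SetLike.val_smul, map_smul]; rfl) }
  obtain ⟨n, hn⟩ := h₁ T₁ J₁ (fun a b hab => Subtype.ext (hj (by
    rw [← hj₁, ← hj₁]; exact congrArg i hab)))
  obtain ⟨k, hk⟩ := Ideal.exists_pow_inf_eq_pow_smul I T₁
  let S' : Submodule R T := I ^ (n + k) • (⊤ : Submodule R T)
  let gS : S' →ₗ[R] M₂ := (g ∘ₗ j) ∘ₗ S'.subtype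
  obtain ⟨l, hl⟩ := h₂ (LinearMap.range gS) (LinearMap.range gS).subtype Subtype.val_injective
  let g' : S' →ₗ[R] LinearMap.range gS := gS.rangeRestrict
  let X' : Submodule R S' := I ^ l • ⊤
  have hgf : Zer P (g' ∘ₗ X'.subtype) := by
    have hX' : ∀ x : X', g' x.1 ∈ (I ^ l • ⊤ : Submodule R (LinearMap.range gS)) := fun x => by
      have : X'.map g' ≤ I ^ l • ⊤ := by
        rw [Submodule.map_smul'']
        exact Submodule.smul_mono le_rfl le_top
      exact this ⟨x.1, x.2, rfl⟩
    exact hl.comp_right ((g' ∘ₗ X'.subtype).codRestrict _ hX')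
  have hK : ∀ x : LinearMap.ker g', ((x : S') : T) ∈ I ^ n • T₁ := fun x => by
    have h1 : ((x : S') : T) ∈ I ^ (n + k) • ⊤ ⊓ T₁ :=
      ⟨(x : S').2, congrArg Subtype.val x.2⟩
    rw [hk (n + k) (by omega), Nat.add_sub_cancel] at h1
    exact Submodule.smul_mono le_rfl inf_le_right h1
  have hK₁ : ∀ x : LinearMap.ker g', ((x : S') : T) ∈ T₁ := fun x =>
    Submodule.smul_le_right (hK x)
  let κ : LinearMap.ker g' →ₗ[R] T₁ := (S'.subtype ∘ₗ (LinearMap.ker g').subtype).codRestrict T₁ hK₁
  have hκ : ∀ x, κ x ∈ (I ^ n • ⊤ : Submodule R T₁) := fun x =>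
    (Submodule.mem_smul_top_iff _ _ _).2 (hK x)
  have hhi : Zer P (S'.subtype ∘ₗ (LinearMap.ker g').subtype) := by
    have := ((hn.comp_right (κ.codRestrict _ hκ)).comp_left T₁.subtype)
    exact this
  have hmain := Zer.of_exact hP (f := X'.subtype) Subtype.val_injective
    gS.surjective_rangeRestrict (LinearMap.exact_subtype_ker_map g') hgf hhi
  refine ⟨l + (n + k), ?_⟩
  have hle : ∀ x : (I ^ (l + (n + k)) • ⊤ : Submodule R T), (x : T) ∈ I ^ l • S' := fun x => by
    show (x : T) ∈ I ^ l • (I ^ (n + k) • ⊤ : Submodule R T)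
    rw [← Submodule.mul_smul, ← pow_add]
    exact x.2
  let e₀ : (I ^ (l + (n + k)) • ⊤ : Submodule R T) →ₗ[R] S' :=
    (Submodule.subtype _).codRestrict S' fun x => Submodule.smul_le_right (hle x)
  exact hmain.comp_right (e₀.codRestrict X' fun x => (Submodule.mem_smul_top_iff _ _ _).2 (hle x))

theorem hGood_of_killed [IsNoetherianRing R] (hP : ∀ i, Module.Flat R (P.X i)) {I : Ideal R}
    (hI : ∀ a ∈ I, ∀ (X : Type u) [AddCommGroup X] [Module R X], Zer P (a • (LinearMap.id : X →ₗ[R] X)))
    (J : Ideal R) :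
    ∀ (M : Type u) [AddCommGroup M] [Module R M] [Module.Finite R M],
      (∀ x ∈ J, ∀ m : M, x • m = 0) → HGood P I M := by
  induction J using IsNoetherian.induction with
  | hgt J ih =>
    intro M _ _ hfin hJ
    revert hJ
    refine IsNoetherianRing.induction_on_isQuotientEquivQuotientPrime R
      (M := M) hfin (motive := fun N _ _ _ => (∀ x ∈ J, ∀ m : N, x • m = 0) → HGood P I N) ?_ ?_ ?_
    · intro N _ _ _ _ _ T _ _ j hj
      haveI := hj.subsingleton
      refine ⟨0, ?_⟩
      rw [show (I ^ 0 • (⊤ : Submodule R T)).subtype = 0 from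
        LinearMap.ext fun x => Subsingleton.elim _ _]
      exact Zer.zero
    · intro N _ _ _ q e hJ
      have hJq : J ≤ q.1 := fun x hx => by
        have h0 := congrArg e (hJ x hx (e.symm (Submodule.Quotient.mk 1)))
        rw [map_smul, e.apply_symm_apply, map_zero, ← Submodule.Quotient.mk_smul, smul_eq_mul, mul_one,
          Submodule.Quotient.mk_eq_zero] at h0
        exact h0
      have hkill : ∀ x ∈ q.1, ∀ m : N, x • m = 0 := fun x hx m => e.injective (by
        obtain ⟨r, hr⟩ := Submodule.Quotient.mk_surjective _ (e m)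
        rw [map_smul, map_zero, ← hr, ← Submodule.Quotient.mk_smul, Submodule.Quotient.mk_eq_zero]
        exact Ideal.mul_mem_right r _ hx)
      rcases hJq.lt_or_eq with hlt | rfl
      · exact ih q.1 hlt N hkill
      intro T _ _ j hj
      by_cases hIq : I ≤ q.1
      · refine ⟨1, ?_⟩
        rw [show (I ^ 1 • (⊤ : Submodule R T)).subtype = 0 from LinearMap.ext fun x => ?_]
        · exact Zer.zero
        · refine (Submodule.mem_bot R).1 ((?_ : I ^ 1 • (⊤ : Submodule R T) ≤ ⊥) x.2)
          rw [pow_one, Submodule.smul_le]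
          intro r hr t _
          rw [Submodule.mem_bot]
          exact hj (by rw [map_smul, hkill r (hIq hr), map_zero])
      obtain ⟨a, haI, haq⟩ := SetLike.not_le_iff_exists.1 hIq
      haveI : Module.Finite R T := Module.Finite.of_injective j hj
      have ha : Function.Injective (a • (LinearMap.id : T →ₗ[R] T)) := by
        rw [injective_iff_map_eq_zero]
        intro t ht
        refine hj (e.injective ?_)
        rw [map_zero, map_zero]
        obtain ⟨r, hr⟩ := Submodule.Quotient.mk_surjective _ (e (j t))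
        have h0 : a • e (j t) = 0 := by
          rw [← map_smul, ← map_smul, show a • t = 0 from ht, map_zero, map_zero]
        rw [← hr, ← Submodule.Quotient.mk_smul, Submodule.Quotient.mk_eq_zero] at h0
        rw [← hr, Submodule.Quotient.mk_eq_zero]
        exact (q.2.mem_or_mem h0).resolve_left haq
      let Q := T ⧸ LinearMap.range (a • (LinearMap.id : T →ₗ[R] T))
      obtain ⟨k, hk⟩ := ih (q.1 ⊔ Ideal.span {a})
        (left_lt_sup.2 fun h => haq (h (Ideal.mem_span_singleton_self a))) Q (by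
          intro x hx m
          obtain ⟨m, rfl⟩ := Submodule.Quotient.mk_surjective _ m
          obtain ⟨y, hy, z, hz, rfl⟩ := Submodule.mem_sup.1 hx
          obtain ⟨c, rfl⟩ := Ideal.mem_span_singleton'.1 hz
          rw [← Submodule.Quotient.mk_smul, Submodule.Quotient.mk_eq_zero, add_smul,
            show y • m = 0 from hj (by rw [map_smul, hkill y hy, map_zero]), zero_add, mul_smul]
          exact ⟨c • m, by rw [LinearMap.smul_apply, LinearMap.id_apply, smul_comm]⟩) Q LinearMap.id
            Function.injective_id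
      refine ⟨k, ?_⟩
      let g : T →ₗ[R] Q := Submodule.mkQ _
      have hmem : ∀ x : (I ^ k • ⊤ : Submodule R T), g x.1 ∈ (I ^ k • ⊤ : Submodule R Q) := fun x => by
        have : (I ^ k • ⊤ : Submodule R T).map g ≤ I ^ k • ⊤ := by
          rw [Submodule.map_smul'']
          exact Submodule.smul_mono le_rfl le_top
        exact this ⟨x.1, x.2, rfl⟩
      have hgf : Zer P (g ∘ₗ (I ^ k • (⊤ : Submodule R T)).subtype) :=
        hk.comp_right ((g ∘ₗ (I ^ k • (⊤ : Submodule R T)).subtype).codRestrict _ hmem)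
      exact Zer.of_exact hP (h := LinearMap.id) ha (Submodule.mkQ_surjective _)
        (LinearMap.exact_map_mkQ_range _) hgf (by rw [LinearMap.id_comp]; exact hI a haI T)
    · intro N₁ _ _ _ N₂ _ _ _ N₃ _ _ _ f g hf hg hfg h₁ h₃ hJ
      refine hGood_extension hP f g hf hfg (h₁ fun x hx m => hf (by rw [map_smul, hJ x hx, map_zero]))
        (h₃ fun x hx m => ?_)
      obtain ⟨m, rfl⟩ := hg m
      rw [← map_smul, hJ x hx, map_zero]

/-- Elements killing `N` kill the homology of `X ⊗ P` for a projective resolution `P` of `N`. -/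
theorem zer_smul_of_kills {N : ModuleCat.{u} R} (Q : ProjectiveResolution N) (a : R)
    (ha : ∀ y : N, a • y = 0) (X : Type u) [AddCommGroup X] [Module R X] :
    Zer Q.complex (a • (LinearMap.id : X →ₗ[R] X)) := by
  have hcomm : (a • 𝟙 Q.complex) ≫ Q.π = 0 := by
    apply HomologicalComplex.to_single_hom_ext
    apply ModuleCat.hom_ext
    refine LinearMap.ext fun x => ?_
    show (Q.π.f 0).hom (a • x) = 0
    rw [map_smul]
    exact ha _
  let H := ProjectiveResolution.liftHomotopyZero (P := Q) (Q := Q) (a • 𝟙 Q.complex) hcomm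
  intro p z hz
  refine ⟨(H.hom p (p + 1)).hom.lTensor X z, ?_⟩
  have hc := H.comm p
  rw [HomologicalComplex.zero_f, add_zero, prevD_eq H.hom (show (ComplexShape.down ℕ).Rel (p + 1) p from rfl)]
    at hc
  have hc' : ∀ u : X ⊗[R] Q.complex.X p, (a • (LinearMap.id : X →ₗ[R] X)).rTensor (Q.complex.X p) u =
      ((a • 𝟙 Q.complex : Q.complex ⟶ Q.complex).f p).hom.lTensor X u := fun u => by
    induction u using TensorProduct.induction_on with
    | zero => simp
    | tmul x y =>
      rw [LinearMap.rTensor_tmul, LinearMap.lTensor_tmul]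
      show (a • x) ⊗ₜ[R] y = x ⊗ₜ[R] (a • y)
      rw [TensorProduct.smul_tmul]
    | add s t hs ht => rw [map_add, map_add, hs, ht]
  rw [hc', hc, ModuleCat.hom_add, LinearMap.lTensor_add, LinearMap.add_apply, ModuleCat.hom_comp,
    LinearMap.lTensor_comp_apply]
  cases p with
  | zero =>
    rw [dNext_eq_zero H.hom 0 (by simp), ModuleCat.hom_zero, LinearMap.lTensor_zero,
      LinearMap.zero_apply]
    exact (zero_add _).symm
  | succ q =>
    rw [dNext_eq H.hom (show (ComplexShape.down ℕ).Rel (q + 1) q from rfl), ModuleCat.hom_comp,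
      LinearMap.lTensor_comp_apply, show (Q.complex.d (q + 1) q).hom.lTensor X z = 0 from hz, map_zero,
      zero_add]

/-- Vanishing on `- ⊗ P` gives vanishing on `Tor`. -/
theorem tor_map_app_eq_zero {N M M' : ModuleCat.{u} R} (α : M ⟶ M')
    (h : Zer (projectiveResolution N).complex α.hom) (p : ℕ) :
    ((Tor (ModuleCat.{u} R) p).map α).app N = 0 := by
  rw [GrothLib.ExtTorMap.tor_app_eq_zero_iff]
  let f := GrothLib.FlatFP.torCxMap α N
  let C := GrothLib.FlatFP.torCx M N
  let D := GrothLib.FlatFP.torCx M' N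
  show HomologicalComplex.homologyMap f p = 0
  rw [← cancel_epi (C.homologyπ p), HomologicalComplex.homologyπ_naturality, Limits.comp_zero]
  refine ModuleCat.hom_ext (LinearMap.ext fun a => ?_)
  obtain ⟨y, hy⟩ := h p (C.iCycles p a) (ConcreteCategory.congr_hom (C.iCycles_d p (p - 1)) a)
  have h1 : HomologicalComplex.cyclesMap f p a = D.toCycles (p + 1) p y :=
    (ModuleCat.mono_iff_injective (D.iCycles p)).1 inferInstance
      ((ConcreteCategory.congr_hom (HomologicalComplex.cyclesMap_i f p) a).trans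
        (hy.symm.trans (ConcreteCategory.congr_hom (D.toCycles_i (p + 1) p) y).symm))
  show D.homologyπ p (HomologicalComplex.cyclesMap f p a) = 0
  rw [h1]
  exact ConcreteCategory.congr_hom (D.toCycles_comp_homologyπ (p + 1) p) y

/-- For a finite module over a Noetherian ring and `I N = 0`, one power of `I` works in all degrees. -/
theorem exists_pow_tor_map_eq_zero [IsNoetherianRing R] (I : Ideal R) (M N : Type u) [AddCommGroup M]
    [Module R M] [Module.Finite R M] [AddCommGroup N] [Module R N] (hN : ∀ a ∈ I, ∀ y : N, a • y = 0) :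
    ∃ n : ℕ, 0 < n ∧ ∀ p : ℕ,
      ((CategoryTheory.Tor (ModuleCat.{u} R) p).map (ModuleCat.ofHom (I ^ n • ⊤ : Submodule R M).subtype)).app
        (ModuleCat.of R N) = 0 := by
  let Q := projectiveResolution (ModuleCat.of R N)
  have hP : ∀ i, Module.Flat R (Q.complex.X i) := fun i => by
    haveI : Module.Projective R (Q.complex.X i) := (IsProjective.iff_projective _).2 (Q.projective i)
    infer_instance
  obtain ⟨n, hn⟩ := hGood_of_killed hP (I := I) (fun a ha X _ _ => zer_smul_of_kills Q a (hN a ha) X)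
    ⊥ M (fun x hx m => by rw [(Submodule.mem_bot R).1 hx, zero_smul]) M LinearMap.id Function.injective_id
  refine ⟨n + 1, Nat.succ_pos n, fun p => tor_map_app_eq_zero _ ?_ p⟩
  exact hn.comp_right (Submodule.inclusion (Submodule.smul_mono_left (Ideal.pow_le_pow_right n.le_succ)))

end GrothLib.TorAR
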